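import Cfsg.Agent.H6.HNR.Inv
import Cfsg.Agent.H6.HNR.G.Main

set_option autoImplicit false
set_option maxRecDepth 100000
set_option Elab.async false

namespace Cfsg.H6.HNR.I

def sg : List (List ℕ) := [[], [nat_lit 5, nat_lit 7, nat_lit 4, nat_lit 7, nat_lit 5, nat_lit 6, nat_lit 6, nat_lit 1, nat_lit 3, nat_lit 7, nat_lit 4, nat_lit 7, nat_lit 3, nat_lit 6, nat_lit 3, nat_lit 7, nat_lit 5, nat_lit 7, nat_lit 4, nat_lit 7, nat_lit 5, nat_lit 6, nat_lit 6, nat_lit 1, nat_lit 3, nat_lit 7, nat_lit 4, nat_lit 7, nat_lit 3, nat_lit 6, nat_lit 3, nat_lit 7], [nat_lit 5, nat_lit 1, nat_lit 3, nat_lit 7, nat_lit 4, nat_lit 7, nat_lit 3, nat_lit 6, nat_lit 3, nat_lit 7, nat_lit 7, nat_lit 4, nat_lit 7, nat_lit 5, nat_lit 6, nat_lit 6, nat_lit 5, nat_lit 7, nat_lit 4, nat_lit 7, nat_lit 5, nat_lit 6, nat_lit 6, nat_lit 5, nat_lit 1, nat_lit 3, nat_lit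 7, nat_lit 4, nat_lit 7, nat_lit 3, nat_lit 6, nat_lit 3, nat_lit 7, nat_lit 5], [nat_lit 1, nat_lit 4, nat_lit 6, nat_lit 5, nat_lit 3, nat_lit 5, nat_lit 6, nat_lit 5, nat_lit 6], [nat_lit 1, nat_lit 3, nat_lit 7, nat_lit 4, nat_lit 7, nat_lit 3, nat_lit 6, nat_lit 3, nat_lit 7, nat_lit 7, nat_lit 4, nat_lit 7, nat_lit 5, nat_lit 6, nat_lit 6, nat_lit 5, nat_lit 7, nat_lit 4, nat_lit 7, nat_lit 5, nat_lit 6, nat_lit 6, nat_lit 5, nat_lit 1, nat_lit 3, nat_lit 7, nat_lit 4, nat_lit 7, nat_lit 3, nat_lit 6, nat_lit 3, nat_lit 7], [nat_lit 5], [nat_lit 7, nat_lit 4, nat_lit 7, nat_lit 5, nat_lit 6, nat_lit 6], [nat_lit 1, nat_lit 3, nat_lit 7, nat_lit 4, nat_lit 7, nat_lit 3, nat_lit 6, nat_lit 3, nat_lit 7], [nat_lit 1, nat_lit 4, nat_lit 6, nat_lit 5, nat_lit 3, nat_lit 5, nat_lit 6, nat_lit 5, nat_lit 6]]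

def A : List (List ℕ) := [[nat_lit 0, nat_lit 0, nat_lit 0, nat_lit 0], [nat_lit 1, nat_lit 2, nat_lit 4, nat_lit 8], [nat_lit 1, nat_lit 2, nat_lit 4, nat_lit 8], [nat_lit 1, nat_lit 2, nat_lit 4, nat_lit 8], [nat_lit 1, nat_lit 2, nat_lit 4, nat_lit 8], [nat_lit 1, nat_lit 8, nat_lit 14, nat_lit 2], [nat_lit 1, nat_lit 8, nat_lit 13, nat_lit 2], [nat_lit 1, nat_lit 2, nat_lit 6, nat_lit 9], [nat_lit 1, nat_lit 2, nat_lit 4, nat_lit 8]]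

def M : List ICos := [([], [nat_lit 0, nat_lit 0, nat_lit 0, nat_lit 0, nat_lit 0, nat_lit 1, nat_lit 2, nat_lit 6, nat_lit 0], [nat_lit 0, nat_lit 0, nat_lit 0, nat_lit 4], [], 0, 0),
  ([nat_lit 5], [nat_lit 0, nat_lit 0, nat_lit 0, nat_lit 0, nat_lit 0, nat_lit 0, nat_lit 3, nat_lit 7, nat_lit 1], [nat_lit 0, nat_lit 0, nat_lit 0, nat_lit 4], [], 0, 1),
  ([nat_lit 6], [nat_lit 0, nat_lit 0, nat_lit 0, nat_lit 0, nat_lit 0, nat_lit 4, nat_lit 10, nat_lit 12, nat_lit 2], [nat_lit 0, nat_lit 0, nat_lit 0, nat_lit 4], [], 0, 0),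
  ([nat_lit 5, nat_lit 6], [nat_lit 0, nat_lit 0, nat_lit 0, nat_lit 0, nat_lit 0, nat_lit 5, nat_lit 11, nat_lit 14, nat_lit 3], [nat_lit 0, nat_lit 0, nat_lit 0, nat_lit 4], [], 0, 2),
  ([nat_lit 6, nat_lit 5], [nat_lit 0, nat_lit 0, nat_lit 0, nat_lit 0, nat_lit 0, nat_lit 2, nat_lit 1, nat_lit 15, nat_lit 4], [nat_lit 0, nat_lit 3, nat_lit 0, nat_lit 4], [nat_lit 5], 0, 2),
  ([nat_lit 5, nat_lit 6, nat_lit 5], [nat_lit 0, nat_lit 0, nat_lit 0, nat_lit 0, nat_lit 0, nat_lit 3, nat_lit 0, nat_lit 19, nat_lit 5], [nat_lit 0, nat_lit 3, nat_lit 0, nat_lit 4], [], 0, 0),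
  ([nat_lit 7], [nat_lit 0, nat_lit 0, nat_lit 0, nat_lit 0, nat_lit 0, nat_lit 8, nat_lit 13, nat_lit 0, nat_lit 6], [nat_lit 0, nat_lit 0, nat_lit 0, nat_lit 4], [], 0, 3),
  ([nat_lit 5, nat_lit 7], [nat_lit 0, nat_lit 0, nat_lit 0, nat_lit 0, nat_lit 0, nat_lit 9, nat_lit 16, nat_lit 1, nat_lit 7], [nat_lit 0, nat_lit 0, nat_lit 0, nat_lit 4], [], 0, 0),
  ([nat_lit 7, nat_lit 5], [nat_lit 0, nat_lit 0, nat_lit 0, nat_lit 0, nat_lit 0, nat_lit 6, nat_lit 14, nat_lit 24, nat_lit 8], [nat_lit 0, nat_lit 2, nat_lit 0, nat_lit 4], [], 0, 0),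
  ([nat_lit 5, nat_lit 7, nat_lit 5], [nat_lit 0, nat_lit 0, nat_lit 0, nat_lit 0, nat_lit 0, nat_lit 7, nat_lit 12, nat_lit 25, nat_lit 9], [nat_lit 0, nat_lit 2, nat_lit 0, nat_lit 4], [nat_lit 5], 0, 3),
  ([nat_lit 6, nat_lit 6], [nat_lit 0, nat_lit 0, nat_lit 0, nat_lit 0, nat_lit 0, nat_lit 11, nat_lit 5, nat_lit 26, nat_lit 10], [nat_lit 0, nat_lit 3, nat_lit 0, nat_lit 4], [], 0, 4),
  ([nat_lit 5, nat_lit 6, nat_lit 6], [nat_lit 0, nat_lit 0, nat_lit 0, nat_lit 0, nat_lit 0, nat_lit 10, nat_lit 4, nat_lit 29, nat_lit 11], [nat_lit 0, nat_lit 3, nat_lit 0, nat_lit 4], [nat_lit 6], 3, 1),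
  ([nat_lit 6, nat_lit 7], [nat_lit 0, nat_lit 0, nat_lit 0, nat_lit 0, nat_lit 0, nat_lit 17, nat_lit 27, nat_lit 2, nat_lit 12], [nat_lit 0, nat_lit 0, nat_lit 0, nat_lit 4], [], 0, 0),
  ([nat_lit 7, nat_lit 6], [nat_lit 0, nat_lit 0, nat_lit 0, nat_lit 0, nat_lit 0, nat_lit 18, nat_lit 28, nat_lit 37, nat_lit 13], [nat_lit 0, nat_lit 0, nat_lit 0, nat_lit 4], [], 0, 0),
  ([nat_lit 5, nat_lit 6, nat_lit 7], [nat_lit 0, nat_lit 0, nat_lit 0, nat_lit 0, nat_lit 0, nat_lit 20, nat_lit 30, nat_lit 3, nat_lit 14], [nat_lit 0, nat_lit 0, nat_lit 0, nat_lit 4], [], 0, 5),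
  ([nat_lit 6, nat_lit 5, nat_lit 7], [nat_lit 0, nat_lit 0, nat_lit 0, nat_lit 0, nat_lit 0, nat_lit 21, nat_lit 31, nat_lit 4, nat_lit 15], [nat_lit 0, nat_lit 0, nat_lit 0, nat_lit 4], [], 0, 0),
  ([nat_lit 5, nat_lit 7, nat_lit 6], [nat_lit 0, nat_lit 0, nat_lit 0, nat_lit 0, nat_lit 0, nat_lit 22, nat_lit 32, nat_lit 39, nat_lit 16], [nat_lit 0, nat_lit 0, nat_lit 0, nat_lit 4], [], 0, 0),
  ([nat_lit 6, nat_lit 7, nat_lit 5], [nat_lit 0, nat_lit 0, nat_lit 0, nat_lit 0, nat_lit 0, nat_lit 12, nat_lit 7, nat_lit 40, nat_lit 17], [nat_lit 0, nat_lit 1, nat_lit 0, nat_lit 4], [nat_lit 5], 0, 5),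
  ([nat_lit 7, nat_lit 6, nat_lit 5], [nat_lit 0, nat_lit 0, nat_lit 0, nat_lit 0, nat_lit 0, nat_lit 13, nat_lit 8, nat_lit 41, nat_lit 18], [nat_lit 0, nat_lit 3, nat_lit 0, nat_lit 4], [], 0, 0),
  ([nat_lit 5, nat_lit 6, nat_lit 5, nat_lit 7], [nat_lit 0, nat_lit 0, nat_lit 0, nat_lit 0, nat_lit 0, nat_lit 23, nat_lit 34, nat_lit 5, nat_lit 19], [nat_lit 0, nat_lit 0, nat_lit 0, nat_lit 4], [], 0, 0),
  ([nat_lit 5, nat_lit 6, nat_lit 7, nat_lit 5], [nat_lit 0, nat_lit 0, nat_lit 0, nat_lit 0, nat_lit 0, nat_lit 14, nat_lit 6, nat_lit 43, nat_lit 20], [nat_lit 0, nat_lit 1, nat_lit 0, nat_lit 4], [], 0, 0),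
  ([nat_lit 6, nat_lit 5, nat_lit 7, nat_lit 5], [nat_lit 0, nat_lit 0, nat_lit 0, nat_lit 0, nat_lit 0, nat_lit 15, nat_lit 26, nat_lit 44, nat_lit 21], [nat_lit 0, nat_lit 2, nat_lit 0, nat_lit 4], [], 0, 0),
  ([nat_lit 5, nat_lit 7, nat_lit 6, nat_lit 5], [nat_lit 0, nat_lit 0, nat_lit 0, nat_lit 0, nat_lit 0, nat_lit 16, nat_lit 9, nat_lit 45, nat_lit 22], [nat_lit 0, nat_lit 3, nat_lit 0, nat_lit 4], [], 0, 0),
  ([nat_lit 5, nat_lit 6, nat_lit 5, nat_lit 7, nat_lit 5], [nat_lit 0, nat_lit 0, nat_lit 0, nat_lit 0, nat_lit 0, nat_lit 19, nat_lit 29, nat_lit 48, nat_lit 23], [nat_lit 0, nat_lit 2, nat_lit 0, nat_lit 4], [], 0, 0),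
  ([nat_lit 7, nat_lit 5, nat_lit 7], [nat_lit 0, nat_lit 0, nat_lit 0, nat_lit 0, nat_lit 0, nat_lit 25, nat_lit 39, nat_lit 8, nat_lit 24], [nat_lit 0, nat_lit 2, nat_lit 0, nat_lit 4], [nat_lit 7], 0, 1),
  ([nat_lit 5, nat_lit 7, nat_lit 5, nat_lit 7], [nat_lit 0, nat_lit 0, nat_lit 0, nat_lit 0, nat_lit 0, nat_lit 24, nat_lit 37, nat_lit 9, nat_lit 25], [nat_lit 0, nat_lit 2, nat_lit 0, nat_lit 4], [], 0, 6),
  ([nat_lit 6, nat_lit 6, nat_lit 7], [nat_lit 0, nat_lit 0, nat_lit 0, nat_lit 0, nat_lit 0, nat_lit 33, nat_lit 49, nat_lit 10, nat_lit 26], [nat_lit 0, nat_lit 0, nat_lit 0, nat_lit 4], [], 0, 0),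
  ([nat_lit 6, nat_lit 7, nat_lit 6], [nat_lit 0, nat_lit 0, nat_lit 0, nat_lit 0, nat_lit 0, nat_lit 32, nat_lit 22, nat_lit 54, nat_lit 27], [nat_lit 2, nat_lit 1, nat_lit 0, nat_lit 4], [], 0, 0),
  ([nat_lit 7, nat_lit 6, nat_lit 6], [nat_lit 0, nat_lit 0, nat_lit 0, nat_lit 0, nat_lit 0, nat_lit 30, nat_lit 20, nat_lit 55, nat_lit 28], [nat_lit 8, nat_lit 11, nat_lit 0, nat_lit 4], [], 0, 0),
  ([nat_lit 5, nat_lit 6, nat_lit 6, nat_lit 7], [nat_lit 0, nat_lit 0, nat_lit 0, nat_lit 0, nat_lit 0, nat_lit 35, nat_lit 51, nat_lit 11, nat_lit 29], [nat_lit 0, nat_lit 0, nat_lit 0, nat_lit 4], [], 0, 0),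
  ([nat_lit 5, nat_lit 6, nat_lit 7, nat_lit 6], [nat_lit 0, nat_lit 0, nat_lit 0, nat_lit 0, nat_lit 0, nat_lit 28, nat_lit 18, nat_lit 57, nat_lit 30], [nat_lit 2, nat_lit 1, nat_lit 0, nat_lit 4], [], 0, 0),
  ([nat_lit 6, nat_lit 5, nat_lit 7, nat_lit 6], [nat_lit 0, nat_lit 0, nat_lit 0, nat_lit 0, nat_lit 0, nat_lit 36, nat_lit 52, nat_lit 58, nat_lit 31], [nat_lit 0, nat_lit 0, nat_lit 0, nat_lit 4], [], 0, 0),
  ([nat_lit 5, nat_lit 7, nat_lit 6, nat_lit 6], [nat_lit 0, nat_lit 0, nat_lit 0, nat_lit 0, nat_lit 0, nat_lit 27, nat_lit 17, nat_lit 59, nat_lit 32], [nat_lit 8, nat_lit 11, nat_lit 0, nat_lit 4], [], 0, 0),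
  ([nat_lit 6, nat_lit 6, nat_lit 7, nat_lit 5], [nat_lit 0, nat_lit 0, nat_lit 0, nat_lit 0, nat_lit 0, nat_lit 26, nat_lit 15, nat_lit 60, nat_lit 33], [nat_lit 0, nat_lit 1, nat_lit 0, nat_lit 4], [], 0, 0),
  ([nat_lit 5, nat_lit 6, nat_lit 5, nat_lit 7, nat_lit 6], [nat_lit 0, nat_lit 0, nat_lit 0, nat_lit 0, nat_lit 0, nat_lit 38, nat_lit 53, nat_lit 62, nat_lit 34], [nat_lit 0, nat_lit 0, nat_lit 0, nat_lit 4], [nat_lit 5, nat_lit 6, nat_lit 5], 9, 3),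
  ([nat_lit 5, nat_lit 6, nat_lit 6, nat_lit 7, nat_lit 5], [nat_lit 0, nat_lit 0, nat_lit 0, nat_lit 0, nat_lit 0, nat_lit 29, nat_lit 19, nat_lit 56, nat_lit 35], [nat_lit 0, nat_lit 1, nat_lit 3, nat_lit 4], [], 0, 0),
  ([nat_lit 6, nat_lit 5, nat_lit 7, nat_lit 6, nat_lit 5], [nat_lit 0, nat_lit 0, nat_lit 0, nat_lit 0, nat_lit 0, nat_lit 31, nat_lit 21, nat_lit 63, nat_lit 36], [nat_lit 0, nat_lit 3, nat_lit 0, nat_lit 4], [nat_lit 6, nat_lit 5], 9, 3),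
  ([nat_lit 7, nat_lit 6, nat_lit 7], [nat_lit 0, nat_lit 0, nat_lit 0, nat_lit 0, nat_lit 0, nat_lit 42, nat_lit 56, nat_lit 13, nat_lit 37], [nat_lit 0, nat_lit 0, nat_lit 0, nat_lit 4], [], 0, 0),
  ([nat_lit 5, nat_lit 6, nat_lit 5, nat_lit 7, nat_lit 6, nat_lit 5], [nat_lit 0, nat_lit 0, nat_lit 0, nat_lit 0, nat_lit 0, nat_lit 34, nat_lit 23, nat_lit 61, nat_lit 38], [nat_lit 0, nat_lit 3, nat_lit 10, nat_lit 4], [], 0, 0),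
  ([nat_lit 5, nat_lit 7, nat_lit 6, nat_lit 7], [nat_lit 0, nat_lit 0, nat_lit 0, nat_lit 0, nat_lit 0, nat_lit 46, nat_lit 60, nat_lit 16, nat_lit 39], [nat_lit 0, nat_lit 3, nat_lit 0, nat_lit 4], [], 0, 0),
  ([nat_lit 6, nat_lit 7, nat_lit 5, nat_lit 7], [nat_lit 0, nat_lit 0, nat_lit 0, nat_lit 0, nat_lit 0, nat_lit 44, nat_lit 58, nat_lit 17, nat_lit 40], [nat_lit 0, nat_lit 2, nat_lit 0, nat_lit 4], [], 0, 0),
  ([nat_lit 7, nat_lit 6, nat_lit 5, nat_lit 7], [nat_lit 0, nat_lit 0, nat_lit 0, nat_lit 0, nat_lit 0, nat_lit 47, nat_lit 61, nat_lit 18, nat_lit 41], [nat_lit 0, nat_lit 0, nat_lit 0, nat_lit 4], [nat_lit 7, nat_lit 5], 0, 2),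
  ([nat_lit 7, nat_lit 6, nat_lit 7, nat_lit 5], [nat_lit 0, nat_lit 0, nat_lit 0, nat_lit 0, nat_lit 0, nat_lit 37, nat_lit 24, nat_lit 51, nat_lit 42], [nat_lit 0, nat_lit 1, nat_lit 2, nat_lit 4], [], 0, 0),
  ([nat_lit 5, nat_lit 6, nat_lit 7, nat_lit 5, nat_lit 7], [nat_lit 0, nat_lit 0, nat_lit 0, nat_lit 0, nat_lit 0, nat_lit 48, nat_lit 62, nat_lit 20, nat_lit 43], [nat_lit 0, nat_lit 2, nat_lit 0, nat_lit 4], [], 0, 0),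
  ([nat_lit 6, nat_lit 5, nat_lit 7, nat_lit 5, nat_lit 7], [nat_lit 0, nat_lit 0, nat_lit 0, nat_lit 0, nat_lit 0, nat_lit 40, nat_lit 54, nat_lit 21, nat_lit 44], [nat_lit 0, nat_lit 2, nat_lit 0, nat_lit 4], [], 0, 0),
  ([nat_lit 5, nat_lit 7, nat_lit 6, nat_lit 5, nat_lit 7], [nat_lit 0, nat_lit 0, nat_lit 0, nat_lit 0, nat_lit 0, nat_lit 50, nat_lit 63, nat_lit 22, nat_lit 45], [nat_lit 0, nat_lit 10, nat_lit 0, nat_lit 4], [], 0, 0),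
  ([nat_lit 5, nat_lit 7, nat_lit 6, nat_lit 7, nat_lit 5], [nat_lit 0, nat_lit 0, nat_lit 0, nat_lit 0, nat_lit 0, nat_lit 39, nat_lit 25, nat_lit 49, nat_lit 46], [nat_lit 0, nat_lit 1, nat_lit 2, nat_lit 4], [], 0, 0),
  ([nat_lit 7, nat_lit 6, nat_lit 5, nat_lit 7, nat_lit 5], [nat_lit 0, nat_lit 0, nat_lit 0, nat_lit 0, nat_lit 0, nat_lit 41, nat_lit 55, nat_lit 53, nat_lit 47], [nat_lit 0, nat_lit 2, nat_lit 10, nat_lit 4], [], 0, 0),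
  ([nat_lit 5, nat_lit 6, nat_lit 5, nat_lit 7, nat_lit 5, nat_lit 7], [nat_lit 0, nat_lit 0, nat_lit 0, nat_lit 0, nat_lit 0, nat_lit 43, nat_lit 57, nat_lit 23, nat_lit 48], [nat_lit 0, nat_lit 2, nat_lit 0, nat_lit 4], [], 0, 0),
  ([nat_lit 6, nat_lit 6, nat_lit 7, nat_lit 6], [nat_lit 0, nat_lit 0, nat_lit 0, nat_lit 0, nat_lit 0, nat_lit 52, nat_lit 36, nat_lit 46, nat_lit 49], [nat_lit 2, nat_lit 1, nat_lit 2, nat_lit 4], [], 0, 0),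
  ([nat_lit 5, nat_lit 7, nat_lit 6, nat_lit 5, nat_lit 7, nat_lit 5], [nat_lit 0, nat_lit 0, nat_lit 0, nat_lit 0, nat_lit 0, nat_lit 45, nat_lit 59, nat_lit 52, nat_lit 50], [nat_lit 0, nat_lit 2, nat_lit 10, nat_lit 4], [nat_lit 5, nat_lit 7, nat_lit 5], 0, 2),
  ([nat_lit 5, nat_lit 6, nat_lit 6, nat_lit 7, nat_lit 6], [nat_lit 0, nat_lit 0, nat_lit 0, nat_lit 0, nat_lit 0, nat_lit 53, nat_lit 38, nat_lit 42, nat_lit 51], [nat_lit 2, nat_lit 1, nat_lit 2, nat_lit 4], [nat_lit 5, nat_lit 6, nat_lit 5], 9, 5),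
  ([nat_lit 6, nat_lit 5, nat_lit 7, nat_lit 6, nat_lit 6], [nat_lit 0, nat_lit 0, nat_lit 0, nat_lit 0, nat_lit 0, nat_lit 49, nat_lit 33, nat_lit 50, nat_lit 52], [nat_lit 8, nat_lit 11, nat_lit 11, nat_lit 4], [nat_lit 6, nat_lit 5], 11, 5),
  ([nat_lit 5, nat_lit 6, nat_lit 5, nat_lit 7, nat_lit 6, nat_lit 6], [nat_lit 0, nat_lit 0, nat_lit 0, nat_lit 0, nat_lit 0, nat_lit 51, nat_lit 35, nat_lit 47, nat_lit 53], [nat_lit 8, nat_lit 11, nat_lit 11, nat_lit 4], [], 0, 0),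
  ([nat_lit 6, nat_lit 7, nat_lit 6, nat_lit 7], [nat_lit 0, nat_lit 0, nat_lit 0, nat_lit 0, nat_lit 0, nat_lit 57, nat_lit 43, nat_lit 27, nat_lit 54], [nat_lit 0, nat_lit 1, nat_lit 0, nat_lit 4], [], 0, 7),
  ([nat_lit 7, nat_lit 6, nat_lit 6, nat_lit 7], [nat_lit 0, nat_lit 0, nat_lit 0, nat_lit 0, nat_lit 0, nat_lit 59, nat_lit 45, nat_lit 28, nat_lit 55], [nat_lit 10, nat_lit 11, nat_lit 0, nat_lit 4], [nat_lit 7], 0, 4),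
  ([nat_lit 7, nat_lit 6, nat_lit 7, nat_lit 6], [nat_lit 0, nat_lit 0, nat_lit 0, nat_lit 0, nat_lit 0, nat_lit 60, nat_lit 46, nat_lit 35, nat_lit 56], [nat_lit 9, nat_lit 9, nat_lit 3, nat_lit 4], [nat_lit 6], 11, 7),
  ([nat_lit 5, nat_lit 6, nat_lit 7, nat_lit 6, nat_lit 7], [nat_lit 0, nat_lit 0, nat_lit 0, nat_lit 0, nat_lit 0, nat_lit 54, nat_lit 40, nat_lit 30, nat_lit 57], [nat_lit 0, nat_lit 1, nat_lit 0, nat_lit 4], [nat_lit 7, nat_lit 6], 1, 1),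
  ([nat_lit 6, nat_lit 5, nat_lit 7, nat_lit 6, nat_lit 7], [nat_lit 0, nat_lit 0, nat_lit 0, nat_lit 0, nat_lit 0, nat_lit 62, nat_lit 48, nat_lit 31, nat_lit 58], [nat_lit 10, nat_lit 11, nat_lit 0, nat_lit 4], [], 0, 8),
  ([nat_lit 5, nat_lit 7, nat_lit 6, nat_lit 6, nat_lit 7], [nat_lit 0, nat_lit 0, nat_lit 0, nat_lit 0, nat_lit 0, nat_lit 55, nat_lit 41, nat_lit 32, nat_lit 59], [nat_lit 10, nat_lit 11, nat_lit 0, nat_lit 4], [nat_lit 7, nat_lit 6], 9, 8),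
  ([nat_lit 6, nat_lit 6, nat_lit 7, nat_lit 5, nat_lit 7], [nat_lit 0, nat_lit 0, nat_lit 0, nat_lit 0, nat_lit 0, nat_lit 56, nat_lit 42, nat_lit 33, nat_lit 60], [nat_lit 3, nat_lit 0, nat_lit 0, nat_lit 4], [nat_lit 6], 2, 8),
  ([nat_lit 7, nat_lit 6, nat_lit 5, nat_lit 7, nat_lit 6], [nat_lit 0, nat_lit 0, nat_lit 0, nat_lit 0, nat_lit 0, nat_lit 63, nat_lit 50, nat_lit 38, nat_lit 61], [nat_lit 0, nat_lit 9, nat_lit 11, nat_lit 4], [nat_lit 7], 0, 8),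
  ([nat_lit 5, nat_lit 6, nat_lit 5, nat_lit 7, nat_lit 6, nat_lit 7], [nat_lit 0, nat_lit 0, nat_lit 0, nat_lit 0, nat_lit 0, nat_lit 58, nat_lit 44, nat_lit 34, nat_lit 62], [nat_lit 10, nat_lit 11, nat_lit 0, nat_lit 4], [nat_lit 6], 11, 6),
  ([nat_lit 6, nat_lit 5, nat_lit 7, nat_lit 6, nat_lit 5, nat_lit 7], [nat_lit 0, nat_lit 0, nat_lit 0, nat_lit 0, nat_lit 0, nat_lit 61, nat_lit 47, nat_lit 36, nat_lit 63], [nat_lit 0, nat_lit 3, nat_lit 0, nat_lit 4], [], 0, 9)]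

noncomputable def Cs : List ICls := [([], 0, [([nat_lit 6], 0), ([nat_lit 7], 0)], [(0, [], []), (1, [], [7,3,3,3,6]), (2, [nat_lit 7, nat_lit 5, nat_lit 3, nat_lit 2], [7,3,3,3,6]), (4, [nat_lit 4, nat_lit 5, nat_lit 7, nat_lit 5, nat_lit 4, nat_lit 4], [5]), (10, [nat_lit 6, nat_lit 6, nat_lit 5, nat_lit 7, nat_lit 7, nat_lit 4, nat_lit 5, nat_lit 6, nat_lit 2], [7,3,3,3,6])], unp 11 (nat_lit 0xa0100000c000000050000000e000000060000000d000000040100000400000009000000080100000200)),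
  ([nat_lit 5], 0, [([nat_lit 2], 10), ([nat_lit 7, nat_lit 5, nat_lit 7], 0)], [(0, [], [5]), (1, [], [7,3,3,3,6,5]), (6, [nat_lit 6, nat_lit 5, nat_lit 6, nat_lit 3, nat_lit 3, nat_lit 7, nat_lit 2], [7,3,3,3,6])], unp 5 (nat_lit 0xc0100000601000006000000010000000000)),
  ([nat_lit 5, nat_lit 6], 3, [([nat_lit 3], 3), ([nat_lit 7], 2), ([nat_lit 6, nat_lit 5], 0)], [(4, [nat_lit 5, nat_lit 4, nat_lit 6, nat_lit 6, nat_lit 5, nat_lit 6, nat_lit 4, nat_lit 4, nat_lit 5, nat_lit 4], [7,3,3,3,6,5])], unp 7 (nat_lit 0xf0200000c0200000e0100000d01000007020000040200000400)),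
  ([nat_lit 7], 0, [([nat_lit 3], 2), ([nat_lit 4], 1)], [(0, [nat_lit 6, nat_lit 4, nat_lit 7, nat_lit 4], [1])], unp 3 (nat_lit 0x2010000000100000000)),
  ([nat_lit 6, nat_lit 6], 10, [([nat_lit 6], 0), ([nat_lit 7, nat_lit 5, nat_lit 7], 11)], [(4, [nat_lit 7, nat_lit 7, nat_lit 4, nat_lit 5, nat_lit 7, nat_lit 7, nat_lit 4], [7,3,3,3,6,5])], unp 7 (nat_lit 0x50000000e0100000e0000000f0000000d000000040100000400)),
  ([nat_lit 5, nat_lit 6, nat_lit 7], 1, [([nat_lit 3], 1), ([nat_lit 7], 2)], [(4, [nat_lit 4, nat_lit 4, nat_lit 5, nat_lit 7, nat_lit 7, nat_lit 2], [7,3,3,3,6,5]), (6, [nat_lit 7, nat_lit 5, nat_lit 4, nat_lit 4, nat_lit 4], [5]), (8, [nat_lit 6, nat_lit 5, nat_lit 6, nat_lit 5, nat_lit 3, nat_lit 6, nat_lit 4, nat_lit 2], [7,3,3,3,6])], unp 5 (nat_lit 0x90100000801000008000000060000000400)),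
  ([nat_lit 5, nat_lit 7, nat_lit 5, nat_lit 7], 0, [([nat_lit 2], 1), ([nat_lit 3], 10)], [(0, [nat_lit 4, nat_lit 5, nat_lit 3, nat_lit 5, nat_lit 6, nat_lit 6, nat_lit 3], [1])], unp 3 (nat_lit 0x1010000000100000000)),
  ([nat_lit 6, nat_lit 7, nat_lit 6, nat_lit 7], 0, [([nat_lit 2], 1), ([nat_lit 6, nat_lit 6], 11)], [(0, [nat_lit 7, nat_lit 7, nat_lit 3, nat_lit 5, nat_lit 6, nat_lit 2], [7,3,3,3,6]), (6, [nat_lit 6, nat_lit 3, nat_lit 6, nat_lit 3], [7,3,3,3,6,5]), (12, [nat_lit 7, nat_lit 7, nat_lit 5, nat_lit 6, nat_lit 5, nat_lit 4, nat_lit 4, nat_lit 4], [5])], unp 5 (nat_lit 0xc0000000600000001010000000100000000)),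
  ([nat_lit 6, nat_lit 5, nat_lit 7, nat_lit 6, nat_lit 7], 10, [([nat_lit 2], 11), ([nat_lit 3], 1)], [(6, [nat_lit 6, nat_lit 6, nat_lit 5, nat_lit 4, nat_lit 7, nat_lit 7, nat_lit 7, nat_lit 4, nat_lit 4], [1])], unp 3 (nat_lit 0xd010000060100000600)),
  ([nat_lit 6, nat_lit 5, nat_lit 7, nat_lit 6, nat_lit 5, nat_lit 7], 1, [([nat_lit 3], 1), ([nat_lit 6], 10)], [(4, [nat_lit 6, nat_lit 3, nat_lit 3, nat_lit 5, nat_lit 7, nat_lit 4, nat_lit 7, nat_lit 4, nat_lit 4, nat_lit 4], [7,3,3,3,6,5])], unp 7 (nat_lit 0xf0100000e010000060100000701000005010000040100000400))]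

def Reps : List (List ℕ) := [[], [7,3,3,3,6], [1], [5], [7,3,3,3,6,5]]

noncomputable def chk : List ℕ → Bool := fixB HNR.G.img 8 HNR.G.bs

end Cfsg.H6.HNR.I
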